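import Cfsg.Agent.H201.L34.Tab

/-!
# S5917, type D: the tables of the frame `D₄ T₄` (helper251)

Roots: index `s < 240` of `chevE8`, `239 - s` is the negative.  `(V1, V3)` : the values of the two generators of the
second orbit (`H251.L34.V3`); the character number `w` (`0 ≤ w < 8`) is `3 V1 + V3 = w + 1`.

* `DRL` : the 24 roots of value zero (`D₄`);
* `MTL` : entry `64 X + 8 w + k` : the root of type `X` (three 8-dimensional modules of `D₄`), character `w` and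
  `D₄`-weight `k` (`7 - k` is the negative weight);
* `DPL` : entry `3 w + i` : the three roots of character `w` orthogonal to `D₄`;
* `RTL` : entry `8 (24 X + b) + k` : the weight `k + ` root `b`, `8` if there is none;
* `NWL` : the negative character.
-/

set_option autoImplicit false
set_option maxRecDepth 100000

namespace Cfsg.Agent.H251.L34

open Cfsg Cfsg.Lie
open Cfsg.Agent.H413.L16 (tg)
open Cfsg.Agent.ChevalleyStructure.RootVec (rt)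
open Cfsg.Agent.ChevalleyStructure.Columns (car cor)

/-- the roots of `D₄` -/
def DRL : List ℕ :=
  [87, 91, 92, 96, 97, 98, 102, 103, 104, 108, 109, 113, 126, 130, 131, 135, 136, 137, 141, 142, 143, 147, 148, 152]

/-- the roots of the three 8-dimensional modules -/
def MTL : List ℕ :=
  [73, 45, 61, 64, 51, 54, 68, 35, 204, 171, 185, 188, 175, 178, 194, 166, 206, 173, 187, 190, 177, 180, 196, 168,
  36, 15, 21, 22, 16, 17, 26, 14, 205, 172, 186, 189, 176, 179, 195, 167, 71, 43, 59, 62, 49, 52, 66, 33, 72, 44,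
  60, 63, 50, 53, 67, 34, 225, 213, 222, 223, 217, 218, 224, 203, 169, 170, 184, 163, 174, 162, 164, 165, 74, 75,
  77, 65, 76, 55, 69, 70, 207, 210, 219, 191, 214, 181, 197, 200, 208, 211, 220, 192, 215, 182, 198, 201, 37, 40,
  56, 23, 46, 18, 27, 30, 39, 42, 58, 25, 48, 20, 29, 32, 209, 212, 221, 193, 216, 183, 199, 202, 38, 41, 57, 24,
  47, 19, 28, 31, 149, 144, 153, 156, 123, 127, 138, 132, 107, 101, 112, 116, 83, 86, 95, 90, 8, 7, 9, 10, 3, 4, 6,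
  5, 150, 145, 154, 157, 124, 128, 139, 133, 151, 146, 155, 158, 125, 129, 140, 134, 234, 233, 235, 236, 229, 230,
  232, 231, 105, 99, 110, 114, 81, 84, 93, 88, 106, 100, 111, 115, 82, 85, 94, 89]

/-- the roots orthogonal to `D₄` -/
def DPL : List ℕ :=
  [0, 120, 238, 239, 119, 1, 78, 121, 160, 11, 122, 226, 2, 159, 227, 161, 118, 79, 237, 80, 12, 228, 117, 13]

/-- the action of the roots of `D₄` on the weights -/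
def RTL : List ℕ :=
  [1, 8, 8, 8, 8, 8, 7, 8, 4, 8, 8, 7, 8, 8, 8, 8, 5, 8, 7, 8, 8, 8, 8, 8, 2, 8, 8, 8, 8, 7, 8, 8, 3, 8, 8, 8, 7, 8,
  8, 8, 6, 7, 8, 8, 8, 8, 8, 8, 8, 8, 8, 1, 8, 8, 4, 8, 8, 8, 1, 8, 8, 8, 5, 8, 8, 8, 4, 5, 8, 8, 8, 8, 8, 8, 8, 8,
  8, 1, 2, 8, 8, 8, 8, 8, 1, 8, 3, 8, 8, 8, 8, 2, 8, 4, 8, 8, 8, 8, 3, 8, 5, 8, 8, 8, 8, 4, 8, 6, 8, 8, 8, 8, 8, 5,
  6, 8, 8, 8, 8, 8, 8, 8, 8, 8, 2, 3, 8, 8, 8, 2, 8, 8, 8, 6, 8, 8, 8, 3, 8, 8, 6, 8, 8, 8, 8, 8, 8, 8, 8, 8, 0, 1,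
  8, 8, 8, 0, 8, 8, 8, 4, 8, 8, 0, 8, 8, 8, 8, 5, 8, 8, 8, 8, 8, 0, 8, 2, 8, 8, 8, 8, 0, 8, 8, 3, 8, 0, 8, 8, 8, 8,
  8, 6, 8, 8, 3, 8, 5, 8, 8, 8, 8, 5, 6, 8, 8, 8, 8, 8, 5, 8, 7, 8, 8, 8, 8, 8, 8, 3, 8, 8, 6, 8, 8, 8, 3, 8, 8, 8,
  7, 8, 8, 8, 6, 7, 8, 8, 8, 8, 8, 8, 8, 8, 0, 8, 8, 8, 8, 5, 8, 8, 1, 8, 8, 8, 5, 8, 8, 8, 4, 5, 8, 8, 8, 8, 8, 8,
  8, 8, 0, 8, 8, 3, 8, 8, 8, 8, 1, 8, 3, 8, 8, 0, 8, 8, 8, 8, 8, 6, 1, 8, 8, 8, 8, 8, 7, 8, 8, 4, 8, 6, 8, 8, 8, 8,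
  4, 8, 8, 7, 8, 8, 8, 8, 8, 8, 8, 8, 2, 3, 8, 8, 8, 2, 8, 8, 8, 6, 8, 8, 2, 8, 8, 8, 8, 7, 8, 8, 8, 8, 8, 8, 8, 8,
  0, 1, 8, 8, 8, 0, 8, 8, 8, 4, 8, 8, 8, 1, 8, 8, 4, 8, 8, 8, 8, 8, 8, 0, 8, 2, 8, 8, 8, 8, 8, 1, 2, 8, 8, 8, 8, 2,
  8, 4, 8, 8, 8, 8, 4, 5, 8, 8, 8, 8, 4, 8, 8, 7, 8, 8, 8, 8, 5, 8, 7, 8, 8, 8, 8, 8, 8, 4, 8, 6, 8, 8, 8, 8, 8, 5,
  6, 8, 8, 8, 8, 8, 6, 7, 8, 8, 8, 8, 8, 8, 8, 8, 8, 1, 8, 8, 4, 8, 8, 8, 1, 8, 8, 8, 5, 8, 1, 8, 8, 8, 8, 8, 7, 8,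
  8, 8, 8, 0, 8, 8, 8, 4, 8, 8, 0, 8, 8, 8, 8, 5, 8, 8, 8, 2, 8, 4, 8, 8, 8, 8, 3, 8, 5, 8, 8, 8, 2, 8, 8, 8, 8, 7,
  8, 8, 3, 8, 8, 8, 7, 8, 8, 8, 8, 0, 8, 8, 8, 8, 8, 6, 8, 2, 8, 8, 8, 6, 8, 8, 8, 3, 8, 8, 6, 8, 8, 8, 8, 8, 8, 8,
  8, 8, 0, 1, 8, 8, 8, 8, 8, 1, 2, 8, 8, 8, 8, 8, 1, 8, 3, 8, 8, 8, 8, 8, 8, 0, 8, 2, 8, 8, 8, 8, 0, 8, 8, 3, 8, 8,
  8, 8, 2, 3, 8, 8]

/-- the negative character -/
def NWL : List ℕ := [1, 0, 5, 7, 6, 2, 4, 3]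

/-- the root number `b` of `D₄` -/
def dr (b : Fin 24) : ℕ := DRL.getD b 240

/-- the root of type `X`, character `w`, weight `k` -/
def mt (X : Fin 3) (w k : Fin 8) : ℕ := MTL.getD (64 * X + 8 * w + k) 240

/-- the roots orthogonal to `D₄` -/
def dp (w : Fin 8) (i : Fin 3) : ℕ := DPL.getD (3 * w + i) 240

/-- the action of the root `b` on the weights of type `X` -/
def rtb (X : Fin 3) (b : Fin 24) (k : Fin 8) : ℕ := RTL.getD (8 * (24 * X + b) + k) 8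

/-- the negative weight -/
def nk (k : Fin 8) : Fin 8 := Fin.rev k

/-- the negative character -/
def nw (w : Fin 8) : Fin 8 := Fin.ofNat 8 (NWL.getD w 0)

/-- the value of `V3` on a root -/
def w3 (s : ℕ) : ZMod 3 := ∑ i : Fin 8, (![1, 0, 0, 0, 0, 1, 0, 1] : Fin 8 → ZMod 3) i * (rt chevE8 s i : ℤ)

end Cfsg.Agent.H251.L34
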